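import Cfsg.Agent.H316.U6Model

/-!
# The data of `D.group F` and of `³D₄(q)` with explicit Frobenius and embedding (S2187, row TRI)

`mdata_std`, `mdata_td4` : the proofs of `H316.U6.mdata_untw'`, `mdata_twD4'` (helper316) with `σ` and `ι` in the statement.
-/

set_option autoImplicit false
set_option linter.unusedSectionVars false

namespace Cfsg.Agent.H350.Tri

open CoxeterSystem Cfsg Cfsg.Lie Cfsg.Lie.ChevalleyDatum
open Cfsg.Agent.ChevalleyStructure Cfsg.Agent.ChevalleyStructure.Elts Cfsg.Agent.ChevalleyStructure.CoxeterGeom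
  Cfsg.Agent.ChevalleyStructure.CoxeterGeomTypes Cfsg.Agent.ChevalleyStructure.NPerm
open Cfsg.Agent.Tits.Roots Cfsg.Agent.Tits.Core Cfsg.Agent.Nodes Cfsg.Agent.Nodes.Reps Cfsg.Agent.Nodes.BNOf
  Cfsg.Agent.Nodes.OppDec
  Cfsg.Agent.Nodes.RGDChev Cfsg.Agent.Nodes.Bruhat Cfsg.Agent.Nodes.NormalForm
open Cfsg.Agent.KFacts.RgdField Cfsg.Agent.KFacts.RgdChevCoord
open Cfsg.Agent.BpExc Cfsg.Agent.BpExc.FamField Cfsg.Agent.BpExc.TorCent Cfsg.Agent.BpExc.TorChev Cfsg.Agent.BpExc.Tow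
  Cfsg.Agent.BpExc.TowChev Cfsg.Agent.BpExc.Fr Cfsg.Agent.BpExc.Pair Cfsg.Agent.BpExc.LangFr Cfsg.Agent.GpExc.Field
  Cfsg.Agent.BpExc.FamUntw Cfsg.Agent.BpExc.FamInst
open Cfsg.Agent.H316.U6
open Cfsg.Agent.H469.Exc Cfsg.Agent.H469.Exc.SigFr
open Cfsg.Agent.ChevalleyStructure.SignedSymm Cfsg.Agent.ChevalleyStructure.GraphSymm
open Cfsg.Agent.LangThm (mem_XX_vec)

universe u v

variable {D : ChevalleyDatum} {l : ℕ} {M : CoxeterMatrix (Fin l)} {r : ℕ} [hr : Fact r.Prime]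

theorem mdata_std (hp : IsType D l M) (F : Type) [Field F] [Fintype F] [CharP F r] {d : ℕ}
    {B : Fin l → Fin l → ℤ} (hB : H129.TorusChar.InvC D l d B) (hd : d ≠ 0) (hd1 : d = 1 ∨ d.Prime) :
    ∃ (n : ℕ) (f : F →+* KK r) (m : MData hp r (Fintype.card F) ↥(D.group F)), 0 < n ∧ Fintype.card F = r ^ n ∧
      m.σ = phi D (KK r) r n ∧ m.ι = emb hp.inList f ∧ m.g = AddEquiv.refl _ := by
  obtain ⟨f⟩ := RowsUntw.exists_emb r F
  obtain ⟨n, hn0, hn⟩ := exists_card (F := F) r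
  have hk := locFin r
  have hfin := RowsUntw.finite_phi (D := D) (k := AlgebraicClosure (ZMod r)) (r := r) hn0
  have hq : Fintype.card F = r ^ n := by rw [← hn, Nat.card_eq_fintype_card]
  let φ : AlgebraicClosure (ZMod r) →+* AlgebraicClosure (ZMod r) :=
    ((frb (AlgebraicClosure (ZMod r)) r n : AlgebraicClosure (ZMod r) ≃+* AlgebraicClosure (ZMod r)) :
      AlgebraicClosure (ZMod r) →+* AlgebraicClosure (ZMod r))
  have hφ : ∀ t, φ t = t ^ Fintype.card F := by
    intro t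
    rw [hq]
    exact frb_apply _ r n t
  have hσφ : ∀ y : ↥(D.group (AlgebraicClosure (ZMod r))),
      ((phi D (AlgebraicClosure (ZMod r)) r n y : ↥(D.group (AlgebraicClosure (ZMod r)))) :
        GL D.Idx (AlgebraicClosure (ZMod r))) = glMap D φ (y : GL D.Idx (AlgebraicClosure (ZMod r))) := by
    intro y
    apply Units.ext
    rfl
  have hfix : ∀ a, phi D (AlgebraicClosure (ZMod r)) r n (emb hp.inList f a) = emb hp.inList f a :=
    fun a => Emb.emb_fix hp.inList hφ hσφ a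
  have hxs : ∀ s t, phi D (AlgebraicClosure (ZMod r)) r n (xs hp.inList s t) =
      xs hp.inList s (t ^ Fintype.card F) := by
    intro s t
    apply Subtype.ext
    rw [hσφ]
    apply Units.ext
    rw [coe_xs, coe_xs, coe_xG]
    rw [← hφ t]
    exact Cfsg.Agent.ChevStructure.FieldMap.x_map D φ s t
  have hnorm : ∀ y, phi D (AlgebraicClosure (ZMod r)) r n y = y → ∀ x, ∃ x', emb hp.inList f x' =
      y * emb hp.inList f x * y⁻¹ := by
    intro y hy x
    obtain ⟨b, hb⟩ := Emb.conj_mem_range hp.inList (f := f) hφ hσφ hy (n := emb hp.inList f x) ⟨x, rfl⟩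
    exact ⟨b, hb⟩
  have hpow : ∀ y, phi D (AlgebraicClosure (ZMod r)) r n y = y →
      y ^ Nat.gcd d (Fintype.card F - 1) ∈ (emb hp.inList f).range := by
    intro y hy
    have hy' : H129.TorusUntw.phi D (KK r) r n y = y := by
      apply Subtype.ext
      rw [H129.TorusUntw.coe_phi]
      refine Eq.trans ?_ (congrArg Subtype.val hy)
      rw [hσφ]
      congr 1
      congr 1
      ext t
      rw [hφ, hq, iterateFrobenius_def]
    have h1 := fix_pow_range hp f hq hB hd hy'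
    have h2 : Nat.gcd d (Fintype.card F - 1) = d ∨ Nat.gcd d (Fintype.card F - 1) = 1 := by
      rcases hd1 with h3 | h3
      · right; rw [h3, Nat.gcd_one_left]
      · rcases (Nat.dvd_prime h3).1 (Nat.gcd_dvd_left d (Fintype.card F - 1)) with h4 | h4
        · exact Or.inr h4
        · exact Or.inl h4
    rcases h2 with h2 | h2
    · rw [h2]; exact h1
    · rw [h2, pow_one]
      exact H129.TorusUntw.fix_range hp M.toCoxeterSystem f hq hB hd
        (exists_root_of_coprime hd (Nat.Coprime.symm h2)) hy'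
  refine ⟨n, f, {
    σ := phi D (AlgebraicClosure (ZMod r)) r n
    π := Equiv.refl _
    dd := Nat.gcd d (Fintype.card F - 1)
    norm := hnorm
    pow_dd := hpow
    g := AddEquiv.refl _
    e := n
    ι := emb hp.inList f
    he := hn0
    hq := hq.symm
    frob := phi_isFrob r n
    fr := phi_fr hp M.toCoxeterSystem r hk n
    fin := hfin
    inj := emb_injective hp.inList f
    fix := hfix
    idx := ?_
    act := ?_
    perm := fun v i => rfl
    top := rfl
    gen := ?_ }, hn0, hq, rfl, rfl, rfl⟩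
  · intro y hy
    have hy' : glMap D φ (y : GL D.Idx (AlgebraicClosure (ZMod r))) = y := by rw [← hσφ, hy]
    obtain ⟨a, ha, t, ht, e⟩ := EmbSplit.untw_split hp.inList (Emb.fix_iff_range hφ) y.2 hy'
    have hta : t ∈ D.group (AlgebraicClosure (ZMod r)) := by
      have h1 : t = ((emb hp.inList f ⟨a, ha⟩ : ↥(D.group (AlgebraicClosure (ZMod r)))) :
          GL D.Idx (AlgebraicClosure (ZMod r)))⁻¹ * y := by
        rw [coe_emb]
        exact eq_inv_mul_of_mul_eq e.symm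
      rw [h1]
      exact mul_mem (inv_mem (SetLike.coe_mem _)) y.2
    have e' : y = emb hp.inList f ⟨a, ha⟩ * ⟨t, hta⟩ := Subtype.ext e
    have hσt : phi D (AlgebraicClosure (ZMod r)) r n ⟨t, hta⟩ = ⟨t, hta⟩ := by
      have h1 := hy
      rw [e', map_mul, hfix] at h1
      exact mul_left_cancel h1
    have hft : IsOfFinOrder (⟨t, hta⟩ : ↥(D.group (AlgebraicClosure (ZMod r)))) := by
      have h1 : IsOfFinOrder (⟨⟨t, hta⟩, hσt⟩ : ↥(fixedSubgroup (phi D (AlgebraicClosure (ZMod r)) r n))) :=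
        isOfFinOrder_of_finite _
      exact (fixedSubgroup (phi D (AlgebraicClosure (ZMod r)) r n)).subtype.isOfFinOrder h1
    obtain ⟨m, hm, hm1⟩ := RowsN.exists_coprime hp.inList (Subgroup.mem_subgroupOf.2 ht) hft
    refine ⟨m, hm, ?_⟩
    rw [e']
    exact RowsN.pow_mem_of_split (N := (emb hp.inList f).range) ⟨_, rfl⟩
      (fun b hb => Emb.conj_mem_range hp.inList (f := f) hφ hσφ hσt hb) hm1
  · intro s hs
    exact ⟨s, rfl, hs, 1, one_ne_zero, fun t => by rw [hxs, one_mul], fun t => by rw [hxs, inv_one, one_mul]⟩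
  · intro N hpos hneg
    have hxe : ∀ s (t : F), emb hp.inList f (xs hp.inList s t) = xs hp.inList s (f t) := by
      intro s t
      apply Subtype.ext
      rw [coe_emb]
      apply Units.ext
      rw [coe_xs, coe_xs, coe_xG]
      exact Cfsg.Agent.ChevStructure.FieldMap.x_map D f s t
    rw [eq_top_iff, ← G1_eq_top (K := F) hp M.toCoxeterSystem]
    refine iSup_le ?_
    rintro ⟨x, hx⟩
    intro y hy
    obtain ⟨s, hs, rfl⟩ := (isRoot_iff hp _ _).1 hx
    obtain ⟨t, ht⟩ := (mem_XX_vec hp hs).1 hy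
    have e : y = xs hp.inList s t := Subtype.ext ht
    rw [e]
    rcases hx.pos_or_neg with h0 | h0
    · exact hpos _ (by rw [hxe]; exact xs_mem_Sup_Pos hp hs h0 _)
    · exact hneg _ (by rw [hxe]; exact xs_mem_Sup_Neg hp hs h0 _)


section Tw

open Cfsg.Agent.H469.Exc (hD4)
open Cfsg.Agent.CpAut.RgdUntw (fld)
open Cfsg.Agent.BpExc.FamTw.Gr

/-- **`³D₄(q)`.** -/
theorem mdata_td4 {K : Type} [Field K] [Fintype K] [CharP K r] {q : ℕ} (hq : IsPrimePow q)
    (hK : Fintype.card K = q ^ 3) :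
    ∃ (n : ℕ) (f : K →+* KK r) (m : MData Nodes.RGDTwD4.hp r q ↥(twistedD4 K q)), 0 < n ∧ q = r ^ n ∧
      m.σ = gr hD4 symmD4a * phi chevD4 (KK r) r n ∧
      (∀ g : ↥(twistedD4 K q), ((m.ι g : ↥(chevD4.group (KK r))) : GL chevD4.Idx (KK r)) =
        glMap chevD4 f (g : GL chevD4.Idx K)) ∧ m.g = H720.TwFr.permE H720.TwFr.rho4 := by
  obtain ⟨f⟩ := RowsUntw.exists_emb r K
  obtain ⟨m, hm0, hm⟩ := exists_eq_pow (r := r) hq hK
  have hk := locFin r
  obtain ⟨Φ, hΦe⟩ : ∃ Φ : KK r ≃+* KK r, Φ = frb (KK r) r m := ⟨_, rfl⟩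
  have hΦ : ∀ a, Φ a = a ^ r ^ m := by
    intro a
    rw [hΦe]
    exact frb_apply _ r m a
  have hφ : ∀ a, (Φ : KK r →+* KK r) a = a ^ q := by
    intro a
    rw [hm]
    exact hΦ a
  have hγ := coe_gr (L := KK r) hD4 symmD4a
  have hσ := SigFr.isFrob_symm_fld (p := r) symmD4a hγ hΦ
  have Fσ := (SigFr.fr_D4 hγ coxeterD4.toCoxeterSystem).mul
    (SigFr.fr_fld Nodes.RGDTwD4.hp coxeterD4.toCoxeterSystem Φ)
  have hfin := Sig.finite_fixed hk hm0 hσ
  have hsg : ∀ y : ↥(chevD4.group (KK r)),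
      (((gr hD4 symmD4a * fld chevD4 Φ : MulAut ↥(chevD4.group (KK r))) y :
        ↥(chevD4.group (KK r))) : GL chevD4.Idx (KK r)) =
      D4Fixed.sig (Φ : KK r →+* KK r) (y : GL chevD4.Idx (KK r)) := by
    intro y
    rfl
  let em4 : ↥(twistedD4 K q) →* ↥(chevD4.group (KK r)) :=
    (Cfsg.Agent.GpExc.Field.emb hD4 f).comp (Subgroup.inclusion (twisted_le_D4 hq hK))
  have hem : ∀ g : ↥(twistedD4 K q), ((em4 g : ↥(chevD4.group (KK r))) : GL chevD4.Idx (KK r)) =
      glMap chevD4 f (g : GL chevD4.Idx K) := fun _ => rfl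
  have hinj : Function.Injective em4 :=
    (Cfsg.Agent.GpExc.Field.emb_injective hD4 f).comp (Subgroup.inclusion_injective _)
  have hfix : ∀ a, (gr hD4 symmD4a * fld chevD4 Φ : MulAut ↥(chevD4.group (KK r))) (em4 a) = em4 a := by
    intro a
    apply Subtype.ext
    rw [hsg, hem]
    exact (EmbInst.twD4_fix (f := f) hq hK hφ a.2).2
  have hnorm : ∀ y, (gr hD4 symmD4a * fld chevD4 Φ : MulAut ↥(chevD4.group (KK r))) y = y → ∀ x, ∃ x',
      em4 x' = y * em4 x * y⁻¹ := by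
    intro y hy x
    have h1 : D4Fixed.sig (Φ : KK r →+* KK r) (y : GL chevD4.Idx (KK r)) = y := by rw [← hsg, hy]
    have hn := EmbInst.twD4_normalizer (f := f) hq hK hφ y.2 h1
    obtain ⟨b, hb, hb'⟩ := (Subgroup.mem_normalizer_iff.1 hn (glMap chevD4 f x)).1 ⟨x, x.2, rfl⟩
    exact ⟨⟨b, hb⟩, Subtype.ext hb'⟩
  have hpow : ∀ y, (gr hD4 symmD4a * fld chevD4 Φ : MulAut ↥(chevD4.group (KK r))) y = y →
      y ^ 1 ∈ em4.range := by
    intro y hy
    rw [pow_one]
    have h1 : D4Fixed.sig (Φ : KK r →+* KK r) (y : GL chevD4.Idx (KK r)) = y := by rw [← hsg, hy]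
    have h2 : iterateFrobenius (KK r) r m = (Φ : KK r →+* KK r) := by
      ext t
      rw [iterateFrobenius_def, ← hm, hφ]
    have h3 := H720.TwFr.coe_sig4 (k := KK r) r m y
    rw [h2, h1] at h3
    exact H720.TwFr.desc4 f r (twisted_le_D4 hq hK) hk hm0 hm hK (Subtype.ext h3)
  refine ⟨m, f, {
    σ := _
    π := symmD4a.σ₀.symm
    dd := 1
    norm := hnorm
    pow_dd := hpow
    g := _
    e := m
    ι := em4
    he := hm0
    hq := hm.symm
    frob := hσ
    fr := Fσ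
    fin := hfin
    inj := hinj
    fix := hfix
    idx := ?_
    act := ?_
    perm := fun v i => rfl
    top := topD4
    gen := gen_of_words Nodes.RGDTwD4.hp f hem (wordsD4 q) }, hm0, hm, ?_, fun _ => rfl, g_eq_four⟩
  · intro y hy
    have h1 : D4Fixed.sig (Φ : KK r →+* KK r) (y : GL chevD4.Idx (KK r)) = y := by rw [← hsg, hy]
    obtain ⟨g, hg, t, ht, e⟩ := EmbInst.twD4_split (f := f) hq hK hφ y.2 h1
    have ht' : t ∈ chevD4.group (KK r) := diagonal_le_group hD4 _ ht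
    have hn := EmbInst.twD4_normalizer (f := f) hq hK hφ y.2 h1
    refine pow_mem_range Nodes.RGDTwD4.hp em4 hfix hy (fun a => ?_) (a := ⟨g, hg⟩) (t := ⟨t, ht'⟩) ht
      (Subtype.ext e)
    obtain ⟨b, hb, hb'⟩ := (Subgroup.mem_normalizer_iff.1 hn (glMap chevD4 f a)).1 ⟨a, a.2, rfl⟩
    exact ⟨⟨b, hb⟩, Subtype.ext hb'⟩
  · intro s hs
    refine ⟨symmD4a.σ ⟨s, hs⟩, ?_, actF_symm_fld symmD4a _ hγ (fun a => (hφ a)) ⟨s, hs⟩⟩
    funext i
    exact piD4 ⟨s, hs⟩ i
  · have h1 : fld chevD4 Φ = phi chevD4 (KK r) r m := by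
      apply MulEquiv.ext
      intro y
      apply Subtype.ext
      apply Units.ext
      rw [phi_coe, Cfsg.Agent.CpAut.RgdUntw.fld_coe]
      ext i j
      exact hΦ _
    show gr hD4 symmD4a * fld chevD4 Φ = gr hD4 symmD4a * phi chevD4 (KK r) r m
    rw [h1]

end Tw

end Cfsg.Agent.H350.Tri
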