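import Cfsg.Agent.H350.Tri.Fin
import Cfsg.Agent.H388.Tri.PsiR
import Cfsg.Agent.S1082
import Cfsg.Agent.ClassicalGeometry.OrthSemiForms

/-!
# S2187, row TRI: `D₄(q)` (helper350)

`tri_chev` : `E ≤ Aut (chevD4.group F)` elementary abelian of exponent `3` containing a graph or graph-field automorphism;
`tri_plus` : the same for `E (plusForm 4 F) ⧸ Z`, `E` not in the range of `Psi`.
-/

set_option autoImplicit false
set_option linter.unusedSectionVars false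

namespace Cfsg.Agent.H350.Tri

open CoxeterSystem Cfsg Cfsg.Lie Cfsg.Agent.ChevalleyStructure Cfsg.Agent.ChevalleyStructure.Elts
open Cfsg.Agent.ChevalleyStructure.CoxeterGeom Cfsg.Agent.ChevalleyStructure.CoxeterGeomTypes
  Cfsg.Agent.ChevalleyStructure.NPerm
open Cfsg.Agent.GpExc.Field (emb)
open Cfsg.Agent.BpExc.FamUntw Cfsg.Agent.BpExc.TowChev
open Cfsg.Agent.H469.Exc Cfsg.Agent.H818.Gen Cfsg.Agent.H316.U6
open Cfsg.Agent.LieClassical.OrthCore Cfsg.Agent.LieClassical.OrthSimple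
  Cfsg.Agent.LieClassical.QuadForms Cfsg.Agent.AutOrth.Main
  Cfsg.Agent.ClassicalGeometry.OrthSemi Cfsg.Agent.ClassicalGeometry.OrthSemiForms

universe u v

variable {r : ℕ} [hrf : Fact r.Prime]

/-- **`D₄(q)`.** -/
theorem tri_chev (P : Pieces r) (N : Nine r) (hr5 : 5 ≤ r) {F : Type} [Field F] [Fintype F] [CharP F r]
    {n : ℕ} {f : F →+* KK r} (m : MData hp4 r (Fintype.card F) ↥(chevD4.group F)) (hn0 : 0 < n)
    (hn : Fintype.card F = r ^ n) (hσ : m.σ = phi chevD4 (KK r) r n) (hι : m.ι = emb hp4.inList f)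
    {E : Subgroup (MulAut ↥(chevD4.group F))} (hE : IsElementaryAbelian 3 E) (hE9 : 3 ≤ Nat.card ↥E)
    (hx : ∃ x ∈ E, ∃ (c i m : ℕ) (y : Y4 r), c.Coprime 3 ∧ ¬ 3 ∣ i ∧ (m = 0 ∨ n = 3 * m) ∧
      ∀ a, emb hp4.inList f ((x ^ c) a) =
        y * (gr4 r ^ i) (phi chevD4 (KK r) r m (emb hp4.inList f a)) * y⁻¹) : Gam 3 E = ⊤ := by
  have hk : LocFin (KK r) := locFin r
  obtain ⟨hs, -⟩ := Cfsg.Agent.CpAut.RgdD4.simple_D4 (F := F)
  have hc : ∀ z, (∀ a, z * m.ι a = m.ι a * z) → z = 1 := by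
    intro z hz
    refine eq_one_of_comm hp4 hk r f (H388.Tri.Lift.center_bot _) fun a => ?_
    rw [← hι]
    exact hz a
  -- the base Frobenius
  obtain ⟨n₁, hn₁, hd, hlift⟩ : ∃ n₁, 0 < n₁ ∧
      (phi chevD4 (KK r) r n₁ = m.σ ∨ phi chevD4 (KK r) r n₁ ^ 3 = m.σ) ∧
      ∀ m' : ℕ, (m' = 0 ∨ n = 3 * m') → ∃ j, phi chevD4 (KK r) r n₁ ^ j = phi chevD4 (KK r) r m' := by
    have h0 : phi chevD4 (KK r) r 0 = 1 := by
      have := phi_pow (k := KK r) (D := chevD4) r 1 0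
      rw [pow_zero, Nat.mul_zero] at this
      exact this.symm
    by_cases h3 : 3 ∣ n
    · obtain ⟨n₁, rfl⟩ := h3
      refine ⟨n₁, by omega, Or.inr (by rw [phi_pow, hσ, Nat.mul_comm]), ?_⟩
      rintro m' (rfl | h)
      · exact ⟨0, by rw [pow_zero, h0]⟩
      · have : n₁ = m' := by omega
        subst this
        exact ⟨1, pow_one _⟩
    · refine ⟨n, hn0, Or.inl hσ.symm, ?_⟩
      rintro m' (rfl | h)
      · exact ⟨0, by rw [pow_zero, h0]⟩
      · exact absurd ⟨m', h⟩ h3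
  have hty : ∀ {x : MulAut ↥(chevD4.group F)} {i m' : ℕ} {y : Y4 r}, (m' = 0 ∨ n = 3 * m') →
      (∀ a, emb hp4.inList f (x a) = y * (gr4 r ^ i) (phi chevD4 (KK r) r m' (emb hp4.inList f a)) * y⁻¹) →
      ∃ j, Ty m.ι (gr4 r) (phi chevD4 (KK r) r n₁) x i j := by
    intro x i m' y hm' h
    obtain ⟨j, hj⟩ := hlift m' hm'
    refine ⟨j, y, fun a => ?_⟩
    rw [hj, hι]
    exact (h a).symm
  refine gam_top P N hr5 m hc hn₁ hd hE hE9 ?_ ?_
  · intro ρ hρ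
    by_cases h1 : ρ = 1
    · subst h1
      exact ⟨1, 0, 0, by decide, 1, fun a => by
        rw [map_one, pow_zero, pow_zero, one_pow]; rfl⟩
    · have h3 : orderOf ρ = 3 := orderOf_eq_prime (hE.2 ρ hρ) h1
      obtain ⟨c, i, m', y, hc3, hm', -, h⟩ := H388.Tri.Lift.lift_D4 hr5 hn f h3
      obtain ⟨j, hj⟩ := hty hm' h
      exact ⟨c, i, j, hc3, hj⟩
  · obtain ⟨x, hxE, c, i, m', y, hc3, hi, hm', h⟩ := hx
    obtain ⟨j, hj⟩ := hty hm' h
    exact ⟨x ^ c, pow_mem hxE c, i, j, hi, hj⟩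

/-- **`PΩ₈⁺(q)`.** -/
theorem tri_plus (P : Pieces r) (N : Nine r) (hr5 : 5 ≤ r) (F : Type) [Field F] [Fintype F] [CharP F r]
    (E₀ : Subgroup (MulAut (↥(E (plusForm 4 F)) ⧸ Subgroup.center ↥(E (plusForm 4 F)))))
    (hE : IsElementaryAbelian 3 E₀) (hc : 3 ^ 2 ≤ Nat.card ↥E₀) (hnot : ¬ E₀ ≤ (Psi (plusForm 4 F)).range) :
    Gam 3 E₀ = ⊤ := by
  have hG := Cfsg.Agent.AutOrth.Main.good_plus (F := F) (m := 4) (by omega)
  obtain ⟨e0⟩ := Cfsg.Agent.S1082.result (F := F)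
  rw [← coe_plusForm] at e0
  obtain ⟨e, -⟩ : ∃ e : ↥(chevD4.group F) ≃* Cfsg.Agent.H198.TriAut.P8 F, e = e := ⟨e0.trans (pomegaEquiv hG), rfl⟩
  obtain ⟨n, f, m, hn0, hn, hσ, hι, -⟩ := mdata_std (r := r) hp4 F H129.TorusChar.invC_D4 (by norm_num)
    (Or.inr Nat.prime_two)
  obtain ⟨E, hEE⟩ : ∃ E : Subgroup (MulAut ↥(chevD4.group F)), E = E₀.map (MulAut.congr e.symm).toMonoidHom := ⟨_, rfl⟩
  have hE1 : IsElementaryAbelian 3 E := hEE ▸ elab_map _ hE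
  have hcard : Nat.card ↥E = Nat.card ↥E₀ := by
    rw [hEE]
    exact (Nat.card_congr (E₀.equivMapOfInjective _ (MulAut.congr e.symm).injective).toEquiv).symm
  have htop : Gam 3 E = ⊤ := by
    refine tri_chev P N hr5 m hn0 hn hσ hι hE1 (by rw [hcard]; omega) ?_
    rw [SetLike.not_le_iff_exists] at hnot
    obtain ⟨x, hx, hxP⟩ := hnot
    have hx1 : x ≠ 1 := by rintro rfl; exact hxP (one_mem _)
    obtain ⟨y, hy⟩ : ∃ y : MulAut ↥(chevD4.group F), y = MulAut.congr e.symm x := ⟨_, rfl⟩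
    have hye : MulAut.congr e y = x := by
      rw [hy]
      ext a
      show e (e.symm (x (e (e.symm a)))) = x a
      rw [e.apply_symm_apply, e.apply_symm_apply]
    have hyE : y ∈ E := by rw [hEE, hy]; exact ⟨x, hx, rfl⟩
    have hy1 : y ≠ 1 := by
      rintro rfl
      apply hx1
      rw [← hye, map_one]
    have h3 : orderOf y = 3 := orderOf_eq_prime (hE1.2 y hyE) hy1
    obtain ⟨c, i, m', z, hc3, hm', -, h⟩ := H388.Tri.Lift.lift_D4 hr5 hn f h3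
    refine ⟨y, hyE, c, i, m', z, hc3, fun hi => hxP ?_, hm', h⟩
    have h4 := (H388.Tri.PsiR.psi_iff hn f e (x := y ^ c) (by rw [← pow_mul, Nat.mul_comm, pow_mul, hE1.2 y hyE, one_pow]) h).2 hi
    rw [map_pow, hye] at h4
    exact mem_of_pow3 (hE.2 x hx) hc3 h4
  have h1 := map_Gam (p := 3) e E
  have h2 : E.map (MulAut.congr e).toMonoidHom = E₀ := by
    rw [hEE, Subgroup.map_map]
    have h3 : ((MulAut.congr e).toMonoidHom).comp (MulAut.congr e.symm).toMonoidHom = MonoidHom.id _ := by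
      ext x a
      show e (e.symm (x (e.symm.symm (e.symm a)))) = x a
      rw [e.apply_symm_apply]
      show x (e (e.symm a)) = x a
      rw [e.apply_symm_apply]
    rw [h3, Subgroup.map_id]
  rw [h2, htop] at h1
  rw [← h1, Subgroup.map_top_of_surjective _ e.surjective]

end Cfsg.Agent.H350.Tri
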